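import Cfsg.Agent.H877.C3.Cls
import Cfsg.Agent.H877.SK.B.Ctx
import Cfsg.Agent.MonsterU.ModelChart
import Cfsg.Agent.MFive.Row

/-!
# S1920 (`Co3`), case B: the rows of the Baby Monster and of the Monster (helper877)

`exists_red` : `q : 2.B → B` and all the involutions of `B`; `kill_B`, `kill_M`; `row_B`, `row_M`.
-/

set_option autoImplicit false
set_option maxRecDepth 100000
set_option linter.constructorNameAsVariable false
set_option linter.style.haveILetI false

open Subgroup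

namespace Cfsg.Agent.H877.C3

open Cfsg Cfsg.Lie Cfsg.Agent.Bimonster Cfsg.Agent.BabyU Cfsg.Agent.TwoESix.Cover
open Cfsg.Agent.MonsterX Cfsg.Agent.MonsterX.KSide Cfsg.Agent.MonsterX.KLift Cfsg.Agent.MonsterX.KModel
open Cfsg.Agent.MonsterX.Model Cfsg.Agent.MonsterX.MainPack Cfsg.Agent.MonsterX.MainSimple
open Cfsg.Agent.MonsterX.MainBasic Cfsg.Agent.MonsterU Cfsg.Agent.MonsterU.Assembly Cfsg.Agent.MonsterN
open Cfsg.Agent.MonsterN.Lit
open Cfsg.Agent.MonsterN.LitInst Cfsg.Agent.MonsterU.Lam2 Cfsg.Agent.MonsterU.TwoCls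
open Cfsg.Agent.BabyComp Cfsg.Agent.BabyComp.Main Cfsg.Agent.BabyComp.BaseTwo Cfsg.Agent.R01.Lifts
open Cfsg.Agent.MonsterP Cfsg.Agent.MonsterP.NodeData Cfsg.Agent.MonsterP.NodesConj Cfsg.Agent.CTwoTab.BInst
open Cfsg.Agent.H877.SK.B Cfsg.Agent.H738.C3 Cfsg.Agent.H13.Co3

/-- **The involutions of the Baby Monster.** -/
theorem exists_red : (∃ (q : ↥BB' →* X), Ext q τ ∧ ∀ u : X, u * u = 1 → u ≠ 1 →
      ∃ g u' : X, u = g * u' * g⁻¹ ∧ Good.{0, 0} X u') ∧ Finite MG ∧
      IsOfCharacteristicTwo ↥(centralizer ({zz} : Set MG)) := by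
  have hfin : Finite MG := G_finite all.hO
  have hz : KDone.K.z = zG all.hG := Subtype.ext KDone.lnk.z_eq.symm
  have hL : Cfsg.Agent.Co2Type.Quad.Large (InstData.M.Q.subgroupOf InstData.M.G) KDone.K.z := by
    rw [hz]
    exact Cfsg.Agent.MonsterU.ModelChart.large all.hG all.hR all.hL all.hO all.hT
  refine ⟨?_, hfin, ct_large hL⟩
  refine SK.B.elim all KDone.lnk KDone.lft
    (TauInst.tauHyp (Final.cent InstanceFinal.mOrbit Instance.mTrans)) (NodesGrp.prel CTwoTab.BInst.H) (NodesNe.ne CTwoTab.BInst.H)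
    conj_ten ?_
  intro K _ _ hK hF _ _ _ _ q y h π f₁ f₂ f₃ f₄ hq h10 DK Fc hcz hcd hct hc5 big hq5 hnz
  obtain ⟨M₁, B2⟩ := BaseTwo.exists_base2 hq5
  have hr : ∀ x : MG, x * (BB KDone.K KLinkInst.x₀).subtype (tb KDone.K KLinkInst.x₀) =
      (BB KDone.K KLinkInst.x₀).subtype (tb KDone.K KLinkInst.x₀) * x →
      ∃ b, (BB KDone.K KLinkInst.x₀).subtype b = x := fun x hx => ⟨⟨x, mem_centralizer_singleton_iff.2 hx⟩, rfl⟩
  exact ⟨q, hq, fun u huu hu1 => cases hq h10 DK Fc (Subgroup.subtype_injective _) hr hcz hcd hL hc5 big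
    (Cfsg.Agent.TwoESix.LeviG.rootFacts hK hF) (KeyInst.extra hF) (Cfsg.Agent.TwoESix.RootsInst.roots K hF)
    (EFacts.charTwo K hK) B2 u huu hu1⟩

/-- No configuration in the Baby Monster. -/
theorem kill_B {z : X} {N0 : Subgroup X} (C : Conf z N0) {y : X} (hy1 : y ≠ 1) (ho : Odd (orderOf y))
    (hyN : ∀ a ∈ N0, y * a = a * y) : False := by
  obtain ⟨⟨q, hq, hall⟩, hfin, -⟩ := exists_red
  have hfX : Finite X := Finite.of_surjective q hq.surj
  have hzz : z * z = 1 := by rw [← pow_two, ← C.ord, pow_orderOf_eq_one]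
  have hz1 : z ≠ 1 := by
    intro h
    have := C.ord
    rw [h, orderOf_one] at this
    norm_num at this
  obtain ⟨g, u, hu, hgood⟩ := hall z hzz hz1
  let e : X ≃* X := MulAut.conj g⁻¹
  have hez : e z = u := by
    show g⁻¹ * z * g⁻¹⁻¹ = u
    rw [hu]; group
  have C' := conf_map C e
  have hc' := comm_map e hyN
  have ho' : Odd (orderOf (e y)) := by rwa [MulEquiv.orderOf_eq]
  have hy' : e y ≠ 1 := by rwa [Ne, e.map_eq_one_iff]
  rw [hez] at C'
  rcases hgood with hct | ⟨K, S, _, f, R⟩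
  · exact C'.not_char2_cent hc' ho' hy' hct
  · refine kill_red C' hy' ho' hc' (θ := MonoidHom.id X) Function.injective_id (fun g _ => ⟨g, rfl⟩)
      (p := MonoidHom.id X) Function.surjective_id ?_ ?_ R ?_ ?_
    · have h1 : (MonoidHom.id X).ker = ⊥ := by
        rw [eq_bot_iff]
        intro x hx
        exact hx
      rw [h1, card_bot]
      norm_num
    · rintro ⟨x, hx⟩
      exact ⟨0, Subtype.ext (by
        have h1 : x = 1 := hx
        show x ^ 2 ^ 0 = 1
        rw [h1, one_pow])⟩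
    · intro b hb
      exact hb.comm_z C'.ord C'.mem
    · intro b hb
      exact Or.inr hb

/-- the kernel of `q` -/
theorem card_ker {q : ↥BB' →* X} (hq : Ext q τ) : Nat.card ↥q.ker ≤ 2 := by
  classical
  have h1 : Function.Injective (fun k : ↥q.ker => (⟨(k : ↥BB'), by
      have := (hq.ker _).1 k.2
      rcases this with h | h
      · rw [h]; exact one_mem _
      · rw [h]; exact mem_zpowers _⟩ : ↥(zpowers τ))) := by
    intro a b hab
    exact Subtype.ext (congrArg (fun x : ↥(zpowers τ) => (x : ↥BB')) hab)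
  have h2 : Nat.card ↥(zpowers τ) ≤ 2 := by
    rw [Nat.card_zpowers]
    exact orderOf_le_of_pow_eq_one (by norm_num) (by rw [pow_two, hq.zz])
  have h3 : Finite ↥(zpowers τ) :=
    Set.Finite.to_subtype (finite_zpowers.2 (isOfFinOrder_iff_pow_eq_one.2 ⟨2, by norm_num, by rw [pow_two, hq.zz]⟩))
  exact (Nat.card_le_card_of_injective _ h1).trans h2

theorem two_ker {q : ↥BB' →* X} (hq : Ext q τ) : IsPGroup 2 ↥q.ker := by
  rintro ⟨k, hk⟩
  refine ⟨1, Subtype.ext ?_⟩
  show k ^ 2 ^ 1 = 1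
  rcases (hq.ker k).1 hk with h | h
  · rw [h, one_pow]
  · rw [h, pow_one, pow_two, hq.zz]

/-- No configuration in the Monster with the involution `2A`. -/
theorem kill_MA {N0 : Subgroup MG} (C : Conf (τ : MG) N0) {y : MG} (hy1 : y ≠ 1) (ho : Odd (orderOf y))
    (hyN : ∀ a ∈ N0, y * a = a * y) : False := by
  obtain ⟨⟨q, hq, hall⟩, hfin, -⟩ := exists_red
  have hfX : Finite X := Finite.of_surjective q hq.surj
  have hmemB : ∀ g : MG, g * (τ : MG) = (τ : MG) * g → ∃ b : ↥BB', (b : MG) = g := fun g hg =>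
    ⟨⟨g, mem_centralizer_singleton_iff.2 hg⟩, rfl⟩
  -- an element of `N0`
  obtain ⟨n, hn, hnz⟩ : ∃ n ∈ N0, n ∉ zpowers (τ : MG) := by
    by_contra hcon
    push Not at hcon
    have h1 : Nat.card ↥N0 ≤ Nat.card ↥(zpowers (τ : MG)) :=
      Nat.card_le_card_of_injective _ (Subgroup.inclusion_injective (show N0 ≤ zpowers (τ : MG) from hcon))
    rw [C.card, Nat.card_zpowers, C.ord] at h1
    norm_num at h1
  obtain ⟨b, rfl⟩ := hmemB n ((C.comm n hn).comm_z C.ord C.mem)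
  have hbz : b ≠ 1 ∧ b ≠ τ := by
    constructor
    · rintro rfl; exact hnz (one_mem _)
    · rintro rfl; exact hnz (mem_zpowers _)
  have hb1 : q b ≠ 1 := by
    intro h
    rcases (hq.ker b).1 h with h1 | h1
    · exact hbz.1 h1
    · exact hbz.2 h1
  have hbb : q b * q b = 1 := by
    rw [← map_mul, hq.ker]
    have h1 := mem_zp C.ord (C.sq _ hn)
    rcases h1 with h1 | h1
    · exact Or.inl (Subtype.ext h1)
    · exact Or.inr (Subtype.ext h1)
  obtain ⟨g, u, hu, hgood⟩ := hall (q b) hbb hb1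
  obtain ⟨c, rfl⟩ := hq.surj g
  let e : MG ≃* MG := MulAut.conj (c : MG)⁻¹
  have hec : ∀ x : ↥BB', e (x : MG) = ((c⁻¹ * x * c : ↥BB') : MG) := by
    intro x
    show (c : MG)⁻¹ * x * (c : MG)⁻¹⁻¹ = _
    rw [inv_inv]
    rfl
  have het : e (τ : MG) = τ := by
    rw [hec, mul_assoc, ← hq.comm c, inv_mul_cancel_left]
  have C' := conf_map C e
  have hc' := comm_map e hyN
  have ho' : Odd (orderOf (e y)) := by rwa [MulEquiv.orderOf_eq]
  have hy' : e y ≠ 1 := by rwa [Ne, e.map_eq_one_iff]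
  rw [het] at C'
  have hnN : ((c⁻¹ * b * c : ↥BB') : MG) ∈ N0.map e.toMonoidHom := ⟨b, hn, hec b⟩
  have hqu : q (c⁻¹ * b * c) = u := by
    rw [map_mul, map_mul, map_inv, hu]; group
  have hA : ∀ g, Act (τ : MG) (N0.map e.toMonoidHom) g → ∃ b : ↥BB', BB'.subtype b = g := by
    intro g hg
    obtain ⟨b, hb⟩ := hmemB g (hg.comm_z C'.ord C'.mem)
    exact ⟨b, hb⟩
  rcases hgood with hct | ⟨K, S, _, f, R⟩
  · rw [← hqu] at hct
    refine kill_ct C' hy' ho' hc' (θ := BB'.subtype) (Subgroup.subtype_injective _) hA (p := q) hq.surj (two_ker hq)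
      hnN ?_ ?_ hct
    · intro b hb
      have : b = τ := Subtype.ext hb
      rw [this]; exact hq.mapz
    · intro b
      show (τ : MG) * (b : MG) = b * τ
      exact (congrArg Subtype.val (hq.comm b)).symm
  · refine kill_red C' hy' ho' hc' (θ := BB'.subtype) (Subgroup.subtype_injective _) hA
      (p := q) hq.surj (card_ker hq) (two_ker hq) R ?_ ?_
    · intro d hd
      have h1 := mem_zp C'.ord (hd _ hnN)
      rw [← hqu, ← map_mul, ← map_mul, hq.map_eq]
      rcases h1 with h1 | h1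
      · left
        have h2 : (d * (c⁻¹ * b * c) * d⁻¹ * (c⁻¹ * b * c)⁻¹ : ↥BB') = 1 := Subtype.ext h1
        rw [mul_inv_eq_one, mul_inv_eq_iff_eq_mul] at h2
        exact h2
      · right
        have h2 : (d * (c⁻¹ * b * c) * d⁻¹ * (c⁻¹ * b * c)⁻¹ : ↥BB') = τ := Subtype.ext h1
        rw [mul_inv_eq_iff_eq_mul, mul_inv_eq_iff_eq_mul] at h2
        rw [h2, hq.comm (c⁻¹ * b * c * d), mul_assoc]
    · intro b hb
      left
      have : b = τ := Subtype.ext hb
      rw [this]; exact hq.mapz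

/-- No configuration in the Monster. -/
theorem kill_M {z : MG} {N0 : Subgroup MG} (C : Conf z N0) {y : MG} (hy1 : y ≠ 1) (ho : Odd (orderOf y))
    (hyN : ∀ a ∈ N0, y * a = a * y) : False := by
  obtain ⟨-, hfin, hct⟩ := exists_red
  have hzz : z * z = 1 := by rw [← pow_two, ← C.ord, pow_orderOf_eq_one]
  have hz1 : z ≠ 1 := by
    intro h
    have := C.ord
    rw [h, orderOf_one] at this
    norm_num at this
  have key : ∀ (g w : MG), g * w * g⁻¹ = z → ∃ (N : Subgroup MG) (y : MG), Conf w N ∧ y ≠ 1 ∧ Odd (orderOf y) ∧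
      ∀ a ∈ N, y * a = a * y := by
    intro g w hg
    let e : MG ≃* MG := MulAut.conj g⁻¹
    have hez : e z = w := by
      show g⁻¹ * z * g⁻¹⁻¹ = w
      rw [← hg]; group
    have C' := conf_map C e
    rw [hez] at C'
    exact ⟨_, e y, C', by rwa [Ne, e.map_eq_one_iff], by rwa [MulEquiv.orderOf_eq], comm_map e hyN⟩
  rcases MFive.Row.two z hzz hz1 with ⟨g, hg⟩ | ⟨g, hg⟩
  · obtain ⟨N, y, C', h1, h2, h3⟩ := key g _ hg
    exact C'.not_char2_cent h3 h2 h1 hct
  · have ht : tG KDone.mGroup KDone.mRep = ((τ : ↥BB') : MG) := Subtype.ext KDone.lnk.t₀_eq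
    obtain ⟨N, y, C', h1, h2, h3⟩ := key g _ hg
    rw [ht] at C'
    exact kill_MA C' h1 h2 h3

universe u

/-- **The row of the Baby Monster.** -/
theorem row_B {G : Type u} [Group G] [Finite G] (h : Cfsg.Spor.IsoB G) {P N0 : Subgroup G} {z s : G}
    {ψ : ↥(normalizer (P : Set G)) →* Equiv.Perm (Fin 6)} (C : CB P N0 z s ψ) : False := by
  obtain ⟨e⟩ := h
  obtain ⟨y, hy, hyN⟩ := exists_five C
  have hy1 : y ≠ 1 := by
    rintro rfl
    rw [orderOf_one] at hy
    norm_num at hy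
  refine kill_B (conf_map (conf C) e) (y := e y) (by rwa [Ne, e.map_eq_one_iff]) ?_ (comm_map e hyN)
  rw [MulEquiv.orderOf_eq, hy]
  decide

/-- **The row of the Monster.** -/
theorem row_M {G : Type u} [Group G] [Finite G] (h : Cfsg.Spor.IsoM G) {P N0 : Subgroup G} {z s : G}
    {ψ : ↥(normalizer (P : Set G)) →* Equiv.Perm (Fin 6)} (C : CB P N0 z s ψ) : False := by
  obtain ⟨e₁⟩ := h
  obtain ⟨e₂⟩ := Cfsg.Agent.MonsterP.Equiv.equiv
  let e := e₁.trans e₂
  obtain ⟨y, hy, hyN⟩ := exists_five C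
  have hy1 : y ≠ 1 := by
    rintro rfl
    rw [orderOf_one] at hy
    norm_num at hy
  refine kill_M (conf_map (conf C) e) (y := e y) (by rwa [Ne, e.map_eq_one_iff]) ?_ (comm_map e hyN)
  rw [MulEquiv.orderOf_eq, hy]
  decide

end Cfsg.Agent.H877.C3
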